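import Groth.Agent.KFlatLib.Scheme.ExtZero
import Groth.Agent.QCoh.Devissage
import Groth.Agent.QCoh.TensorUnit
import Groth.Agent.QCoh.Sections
import Groth.Agent.QCoh.Localize

/-!
# The free module on an open subscheme: generator and universal property
-/

set_option linter.style.haveILetI false
set_option backward.isDefEq.respectTransparency false
set_option backward.isDefEq.respectTransparency.types false

universe u

open CategoryTheory CategoryTheory.Limits AlgebraicGeometry TopologicalSpace Opposite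

noncomputable section

namespace Groth.Agent.HomO7

open Groth.Agent

variable {X : Scheme.{u}} (U : X.Opens)

/-- `j_! O_U`. -/
abbrev free : X.Modules := (KFlatLib.lsh U.ι).obj (Coh.structureModule (U : Scheme.{u}))

abbrev res {M : X.Modules} {W W' : X.Opens} (h : W' ≤ W) (s : Γ(M, W)) : Γ(M, W') :=
  M.presheaf.map (homOfLE h).op s

theorem res_res {M : X.Modules} {W W' W'' : X.Opens} (h : W' ≤ W) (h' : W'' ≤ W') (s : Γ(M, W)) :
    res h' (res h s) = res (h'.trans h) s := by
  change (M.presheaf.map (homOfLE h).op ≫ M.presheaf.map (homOfLE h').op) s = _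
  rw [← M.presheaf.map_comp]
  rfl

theorem res_smul {M : X.Modules} {W W' : X.Opens} (h : W' ≤ W) (a : Γ(X, W)) (s : Γ(M, W)) :
    res h (a • s) = (X.presheaf.map (homOfLE h).op a) • res h s :=
  M.map_smul _ a s

theorem app_res {M N : X.Modules} (φ : M ⟶ N) {W W' : X.Opens} (h : W' ≤ W) (s : Γ(M, W)) :
    φ.app W' (res h s) = res h (φ.app W s) :=
  QCoh.map_app_comm φ _ s

theorem top_le : U.ι ''ᵁ ⊤ ≤ U := by simp

theorem le_top' : U ≤ U.ι ''ᵁ ⊤ := by simp

theorem res_one {Y : Scheme.{u}} {W W' : Y.Opens} (i : W' ⟶ W) :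
    (Coh.structureModule Y).presheaf.map i.op (1 : Γ(Y, W)) = (1 : Γ(Y, W')) :=
  map_one (Y.presheaf.map i.op).hom

/-- The unit. -/
abbrev eta : Coh.structureModule (U : Scheme.{u}) ⟶ (free U).restrict U.ι :=
  (KFlatLib.lshAdj U.ι).unit.app (Coh.structureModule (U : Scheme.{u}))

/-- The unit on sections. -/
abbrev unitApp (V : (U : Scheme.{u}).Opens) (r : Γ((U : Scheme.{u}), V)) : Γ(free U, U.ι ''ᵁ V) :=
  ((eta U).app V (show Γ(Coh.structureModule (U : Scheme.{u}), V) from r) :)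

/-- The canonical section. -/
def gen : Γ(free U, U) := res (le_top' U) (unitApp U ⊤ 1)

theorem gen_top : res (top_le U) (gen U) = unitApp U ⊤ 1 := by
  rw [gen, res_res]; exact QCoh.map_id' _ _

theorem hom_ext {M : X.Modules} {φ ψ : free U ⟶ M} (h : φ.app U (gen U) = ψ.app U (gen U)) : φ = ψ := by
  refine ((KFlatLib.lshAdj U.ι).homEquiv _ _).injective ((SheafOfModules.unitHomEquiv _).injective ?_)
  refine Subtype.ext (funext fun W => ?_)
  simp only [Adjunction.homEquiv_unit]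
  change φ.app (U.ι ''ᵁ W.unop) (unitApp U W.unop 1) = ψ.app (U.ι ''ᵁ W.unop) (unitApp U W.unop 1)
  have hW : U.ι ''ᵁ W.unop ≤ U.ι ''ᵁ ⊤ := U.ι.image_mono le_top
  have h1 : res hW (unitApp U ⊤ 1) = unitApp U W.unop 1 := by
    have := QCoh.map_app_comm (eta U)
      (homOfLE (le_top (a := W.unop))) (show Γ(Coh.structureModule (U : Scheme.{u}), ⊤) from (1 : Γ((U : Scheme.{u}), ⊤)))
    refine Eq.trans ?_ (this.symm.trans (congrArg _ (res_one _)))
    rfl
  rw [← h1, ← gen_top, res_res, app_res, app_res, h]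

theorem exists_hom {M : X.Modules} (s : Γ(M, U)) : ∃ φ : free U ⟶ M, φ.app U (gen U) = s := by
  let t : Γ((Scheme.Modules.restrictFunctor U.ι).obj M, ⊤) := (res (top_le U) s :)
  let φ := ((KFlatLib.lshAdj U.ι).homEquiv _ _).symm (QCoh.homOfTop t)
  refine ⟨φ, ?_⟩
  have h1 : φ.app (U.ι ''ᵁ ⊤) (unitApp U ⊤ 1) = res (top_le U) s := by
    have h2 := ((KFlatLib.lshAdj U.ι).homEquiv _ _).apply_symm_apply (QCoh.homOfTop t)
    rw [Adjunction.homEquiv_unit] at h2
    refine (congrArg (fun χ : Coh.structureModule (U : Scheme.{u}) ⟶ M.restrict U.ι =>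
      Scheme.Modules.Hom.app χ ⊤ (1 : Γ((U : Scheme.{u}), ⊤))) h2).trans ?_
    rw [QCoh.homOfTop_app, one_smul]
    exact QCoh.map_id' _ _
  rw [gen, app_res, h1, res_res]
  exact QCoh.map_id' _ _

/-- Sections are locally multiples of the generator. -/
theorem exists_local {W : X.Opens} (k : Γ(free U, W)) {y : X} (hy : y ∈ W) (hyU : y ∈ U) :
    ∃ (W' : X.Opens) (hW : W' ≤ W) (hU : W' ≤ U) (a : Γ(X, W')), y ∈ W' ∧ res hW k = a • res hU (gen U) := by
  let V := U.ι ⁻¹ᵁ W
  have hV : U.ι ''ᵁ V ≤ W := by rintro _ ⟨v, hv, rfl⟩; exact hv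
  have hVt : U.ι ''ᵁ V ≤ U.ι ''ᵁ ⊤ := U.ι.image_mono le_top
  let η := eta U
  haveI : IsIso η := inferInstanceAs (IsIso ((KFlatLib.lshAdj U.ι).unit.app _))
  have hη : Function.Bijective (η.app V) :=
    ConcreteCategory.bijective_of_isIso (η.app V)
  obtain ⟨r, hr⟩ := hη.2 (res hV k :)
  refine ⟨U.ι ''ᵁ V, hV, hVt.trans (top_le U), (U.ι.appIso V).inv r, ⟨⟨y, hyU⟩, hy, rfl⟩, ?_⟩
  rw [← res_res (top_le U) hVt, gen_top, ← hr]
  have h1 : res hVt (unitApp U ⊤ 1) = unitApp U V 1 := by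
    have := QCoh.map_app_comm η (homOfLE (le_top (a := V))) (show Γ(Coh.structureModule (U : Scheme.{u}), ⊤) from (1 : Γ((U : Scheme.{u}), ⊤)))
    refine Eq.trans ?_ (this.symm.trans (congrArg _ (res_one _)))
    rfl
  rw [h1]
  let r' : Γ((U : Scheme.{u}), V) := r
  refine (congrArg (η.app V) (show r = r' * 1 from (mul_one r').symm)).trans ?_
  exact Scheme.Modules.Hom.app_smul (M := Coh.structureModule (U : Scheme.{u})) η r' (1 : Γ((U : Scheme.{u}), V))

/-- Outside of the open the sections vanish locally. -/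
theorem exists_local_zero {W : X.Opens} (k : Γ(free U, W)) {y : X} (hy : y ∈ W) (hyU : y ∉ U) :
    ∃ (W' : X.Opens) (hW : W' ≤ W), y ∈ W' ∧ res hW k = 0 := by
  have hz : IsZero ((DerSch.stalkFunctor X y).obj (free U)) :=
    KFlatLib.isZero_stalk_lsh U.ι y (by simpa using hyU) _
  haveI := ModuleCat.subsingleton_of_isZero hz
  have h0 : (free U).presheaf.germ W y hy k = (free U).presheaf.germ W y hy 0 :=
    Subsingleton.elim (α := (DerSch.stalkFunctor X y).obj (free U)) _ _
  obtain ⟨W', hy', i₁, i₂, h⟩ := TopCat.Presheaf.germ_eq _ y hy hy k 0 h0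
  exact ⟨W', leOfHom i₁, hy', h.trans (map_zero _)⟩

/-- The generator is free on the open. -/
theorem smul_gen_eq_zero {W : X.Opens} (hW : W ≤ U) (a : Γ(X, W)) (h : a • res hW (gen U) = 0) : a = 0 := by
  obtain ⟨φ, hφ⟩ := exists_hom (M := Coh.structureModule X) U (1 : Γ(X, U))
  have h1 := congrArg (φ.app W) h
  rw [map_zero, Scheme.Modules.Hom.app_smul, app_res, hφ] at h1
  have h2 : res (M := Coh.structureModule X) hW (1 : Γ(X, U)) = (1 : Γ(X, W)) :=
    map_one (X.presheaf.map (homOfLE hW).op).hom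
  rw [h2] at h1
  exact (mul_one a).symm.trans h1

end Groth.Agent.HomO7
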