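import Groth.Agent.HomO7.Free
import Groth.Prelude.Def_Dual3
import Mathlib.AlgebraicGeometry.Morphisms.ClosedImmersion

/-!
# Sections of `Hom(O_Z, F)` as sections killed by the ideal
-/

set_option linter.style.haveILetI false
set_option backward.isDefEq.respectTransparency false
set_option backward.isDefEq.respectTransparency.types false

universe u

open CategoryTheory CategoryTheory.Limits AlgebraicGeometry TopologicalSpace Opposite

noncomputable section

namespace Groth.Agent.HomO7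

open Groth.Agent

variable {Z X : Scheme.{u}} (i : Z ⟶ X) [IsClosedImmersion i]

theorem eq_zero_of_locally {M : X.Modules} {W : X.Opens} (t : Γ(M, W))
    (h : ∀ y ∈ W, ∃ (W' : X.Opens) (hW : W' ≤ W), y ∈ W' ∧ res hW t = 0) : t = 0 := by
  refine TopCat.Presheaf.section_ext ⟨M.presheaf, M.isSheaf⟩ _ _ _ fun y hy => ?_
  obtain ⟨W', hW, hy', h0⟩ := h y hy
  change M.presheaf.germ W y hy t = M.presheaf.germ W y hy 0
  rw [← TopCat.Presheaf.germ_res_apply M.presheaf (homOfLE hW) y hy' t]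
  change M.presheaf.germ W' y hy' (res hW t) = _
  rw [h0, map_zero, map_zero]

/-- An open of the source near a point extends. -/
theorem exists_open {z : Z} {Q : Z.Opens} (hz : z ∈ Q) :
    ∃ W : X.Opens, i z ∈ W ∧ i ⁻¹ᵁ W ≤ Q := by
  obtain ⟨O, hO, hOV⟩ := (IsClosedImmersion.base_closed (f := i)).isInducing.isOpen_iff.1 Q.2
  exact ⟨⟨O, hO⟩, show z ∈ i.base ⁻¹' O by rw [hOV]; exact hz, fun w hw => (Set.ext_iff.1 hOV w).1 hw⟩

/-- Functions on the source lift locally. -/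
theorem exists_lift {z : Z} {Q : Z.Opens} (hz : z ∈ Q) (g : Γ(Z, Q)) :
    ∃ (W : X.Opens) (a : Γ(X, W)) (hW : i ⁻¹ᵁ W ≤ Q), i z ∈ W ∧
      i.app W a = Z.presheaf.map (homOfLE hW).op g := by
  obtain ⟨c, hc⟩ := i.stalkMap_surjective z (Z.presheaf.germ Q z hz g)
  obtain ⟨W₀, hzW, a, rfl⟩ := X.presheaf.exists_germ_eq (x := i z) c
  rw [Scheme.Hom.germ_stalkMap_apply] at hc
  obtain ⟨Q', hzQ', i₁, i₂, hQ⟩ := TopCat.Presheaf.germ_eq _ z _ hz _ g hc
  obtain ⟨W, hW, hWQ⟩ := exists_open i hzQ'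
  refine ⟨W ⊓ W₀, X.presheaf.map (homOfLE inf_le_right).op a,
    le_trans (le_trans (fun w hw => hw.1) hWQ) (leOfHom i₂), ⟨hW, hzW⟩, ?_⟩
  have hle : i ⁻¹ᵁ (W ⊓ W₀) ≤ Q' := le_trans (fun w hw => hw.1) hWQ
  have h := congrArg (Z.presheaf.map (homOfLE hle).op) hQ
  simp only [← ConcreteCategory.comp_apply, Category.assoc, ← Functor.map_comp] at h
  refine Eq.trans ?_ h
  exact congr($(i.naturality (homOfLE (inf_le_right : W ⊓ W₀ ≤ W₀)).op) a)

theorem push_smul (M : Z.Modules) {W : X.Opens} (a : Γ(X, W))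
    (t : Γ((Scheme.Modules.pushforward i).obj M, W)) :
    a • t = i.app W a • (show Γ(M, i ⁻¹ᵁ W) from t) := rfl

/-- Locally on the base, sections of the direct image of the free module are multiples of the generator. -/
theorem exists_local_push (V : Z.Opens) (U : X.Opens) (hV : V = i ⁻¹ᵁ U)
    {W : X.Opens} (t : Γ((Scheme.Modules.pushforward i).obj (free V), W)) {y : X} (hy : y ∈ W) :
    ∃ (W' : X.Opens) (hW : W' ≤ W), y ∈ W' ∧ (res hW t = 0 ∨
      ∃ (hU : W' ≤ U) (a : Γ(X, W')), res hW t = a • res (M := (Scheme.Modules.pushforward i).obj (free V)) hU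
        (res hV.ge (gen V) : Γ(free V, i ⁻¹ᵁ U))) := by
  have hzero : ∀ (Q : Z.Opens) (W' : X.Opens) (hW : W' ≤ W) (hQ : i ⁻¹ᵁ W' ≤ Q) (hQW : Q ≤ i ⁻¹ᵁ W),
      res hQW (t : Γ(free V, i ⁻¹ᵁ W)) = 0 → res hW t = 0 := fun Q W' hW hQ hQW h0 => by
    change res (M := free V) (i.preimage_mono hW) (t : Γ(free V, i ⁻¹ᵁ W)) = 0
    rw [← res_res hQW hQ, h0]
    exact map_zero _
  by_cases hr : y ∈ Set.range i
  · obtain ⟨z, rfl⟩ := hr
    by_cases hz : z ∈ V
    · obtain ⟨Q, hQW, hQV, g, hzQ, he⟩ := exists_local V (W := i ⁻¹ᵁ W) t hy hz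
      obtain ⟨W₁, a, hW₁, hzW₁, ha⟩ := exists_lift i hzQ g
      refine ⟨W₁ ⊓ W ⊓ U, le_trans inf_le_left inf_le_right, ⟨⟨hzW₁, hy⟩, (hV ▸ hz : z ∈ i ⁻¹ᵁ U)⟩,
        Or.inr ⟨inf_le_right, X.presheaf.map (homOfLE (le_trans inf_le_left inf_le_left)).op a, ?_⟩⟩
      have hle : i ⁻¹ᵁ (W₁ ⊓ W ⊓ U) ≤ Q := le_trans (fun w hw => hw.1.1) hW₁
      rw [push_smul]
      change res (M := free V) _ (t : Γ(free V, i ⁻¹ᵁ W)) =
        _ • res (M := free V) (i.preimage_mono inf_le_right) (res hV.ge (gen V))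
      rw [← res_res hQW hle, he, res_smul, res_res, res_res]
      congr 1
      have hnat : i.app (W₁ ⊓ W ⊓ U) (X.presheaf.map (homOfLE (le_trans inf_le_left inf_le_left)).op a) =
          Z.presheaf.map (homOfLE (fun w (hw : w ∈ i ⁻¹ᵁ (W₁ ⊓ W ⊓ U)) => (hw.1.1 : w ∈ i ⁻¹ᵁ W₁))).op
            (i.app W₁ a) :=
        congr($(i.naturality (homOfLE (le_trans inf_le_left inf_le_left : W₁ ⊓ W ⊓ U ≤ W₁)).op) a)
      rw [hnat, ha, ← ConcreteCategory.comp_apply, ← Z.presheaf.map_comp]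
      rfl
    · obtain ⟨Q, hQW, hzQ, h0⟩ := exists_local_zero V (W := i ⁻¹ᵁ W) t hy hz
      obtain ⟨W₁, hzW₁, hW₁⟩ := exists_open i hzQ
      exact ⟨W₁ ⊓ W, inf_le_right, ⟨hzW₁, hy⟩,
        Or.inl (hzero Q _ _ (le_trans (fun w hw => hw.1) hW₁) hQW h0)⟩
  · let O : X.Opens := ⟨(Set.range i)ᶜ, i.isClosedEmbedding.isClosed_range.isOpen_compl⟩
    refine ⟨W ⊓ O, inf_le_left, ⟨hy, hr⟩, Or.inl (eq_zero_of_locally _ fun x hx => ?_)⟩
    refine ⟨W ⊓ O, le_rfl, hx, ?_⟩
    have he : i ⁻¹ᵁ (W ⊓ O) = ⊥ := by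
      ext z
      simp only [Opens.coe_bot, Set.mem_empty_iff_false, iff_false]
      exact fun h => h.2 ⟨z, rfl⟩
    haveI : Subsingleton Γ(free V, i ⁻¹ᵁ (W ⊓ O)) := by
      rw [he]
      exact AddCommGrpCat.subsingleton_of_isZero
        (TopCat.Sheaf.isTerminalOfEmpty (⟨(free V).presheaf, (free V).isSheaf⟩ : TopCat.Sheaf Ab.{u} Z)).isZero
    exact Subsingleton.elim (α := Γ(free V, i ⁻¹ᵁ (W ⊓ O))) _ _

/-- Morphisms out of the direct image of the free module are determined by the generator. -/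
theorem push_hom_eq_zero {F : X.Modules} (V : Z.Opens) (U : X.Opens) (hV : V = i ⁻¹ᵁ U)
    (φ : (Scheme.Modules.pushforward i).obj (free V) ⟶ F)
    (h : φ.app U (res hV.ge (gen V) : Γ(free V, i ⁻¹ᵁ U)) = 0) : φ = 0 :=
  QCoh.hom_ext_app fun W t => eq_zero_of_locally _ fun y hy => by
    obtain ⟨W', hW, hy', h'⟩ := exists_local_push i V U hV t hy
    refine ⟨W', hW, hy', ?_⟩
    rw [← app_res φ hW t]
    obtain h0 | ⟨hU, a, ha⟩ := h'
    · rw [h0, map_zero]
    · rw [ha, Scheme.Modules.Hom.app_smul, app_res φ hU]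
      erw [h]
      rw [show res hU (0 : Γ(F, U)) = 0 from map_zero _, smul_zero]

/-- Sections of `Hom(O_Z, F)` over the preimage of an affine open are the sections killed by the ideal. -/
theorem main [Dual3.HasHomO i] (F : X.Modules) (U : X.affineOpens) :
    (∀ s : Γ((Dual3.homO i).obj F, i ⁻¹ᵁ U.1), ((Dual3.homOAdj i).counit.app F).app U.1 s = 0 → s = 0) ∧
    (∀ (s : Γ((Dual3.homO i).obj F, i ⁻¹ᵁ U.1)), ∀ a ∈ i.ker.ideal U,
      a • ((Dual3.homOAdj i).counit.app F).app U.1 s = 0) ∧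
    ∀ s : Γ(F, U.1), (∀ a ∈ i.ker.ideal U, a • s = 0) →
      ∃ s' : Γ((Dual3.homO i).obj F, i ⁻¹ᵁ U.1), ((Dual3.homOAdj i).counit.app F).app U.1 s' = s := by
  let adj := Dual3.homOAdj i
  let G := (Dual3.homO i).obj F
  let cn := adj.counit.app F
  let V := i ⁻¹ᵁ U.1
  let T := free V
  let P := (Scheme.Modules.pushforward i).obj T
  let e : Γ(P, U.1) := (gen V : Γ(T, i ⁻¹ᵁ U.1))
  have he : (res (le_refl V) (gen V) : Γ(T, i ⁻¹ᵁ U.1)) = e := QCoh.map_id' _ _
  refine ⟨fun s hs => ?_, fun s a ha => ?_, fun s hs => ?_⟩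
  · obtain ⟨χ, hχ⟩ := exists_hom V (M := G) s
    have h : (Scheme.Modules.pushforward i).map χ ≫ cn = 0 := push_hom_eq_zero i V U.1 rfl _ (by
      rw [he, Scheme.Modules.Hom.comp_app]
      change cn.app U.1 (χ.app V (gen V) : Γ(G, i ⁻¹ᵁ U.1)) = 0
      rw [hχ]
      exact hs)
    have h2 : χ = 0 := (adj.homEquiv _ _).symm.injective (by
      rw [Adjunction.homEquiv_counit, Adjunction.homEquiv_counit]
      refine h.trans ?_
      rw [Functor.map_zero, zero_comp])
    rw [← hχ, h2]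
    rfl
  · refine (Scheme.Modules.Hom.app_smul (M := (Scheme.Modules.pushforward i).obj G) cn a
      (show Γ((Scheme.Modules.pushforward i).obj G, U.1) from s)).symm.trans ?_
    rw [push_smul]
    rw [Scheme.Hom.ker_apply, RingHom.mem_ker] at ha
    rw [ha, zero_smul]
    exact map_zero _
  · obtain ⟨p, hp⟩ := exists_hom (X := X) U.1 (M := P) e
    obtain ⟨σ, hσ⟩ := exists_hom (X := X) U.1 (M := F) s
    haveI : Epi p := by
      refine Preadditive.epi_of_cancel_zero _ fun {R} q hq => push_hom_eq_zero i V U.1 rfl q ?_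
      rw [he, ← hp]
      exact congr(($hq).app U.1 (gen U.1))
    have hk : kernel.ι p ≫ σ = 0 := QCoh.hom_ext_app fun W k₀ => by
      let k : Γ(free U.1, W) := (kernel.ι p).app W k₀
      have hpk : p.app W k = 0 := congr(($(kernel.condition p)).app W k₀)
      change σ.app W k = 0
      refine eq_zero_of_locally _ fun y hy => ?_
      by_cases hyU : y ∈ U.1
      · obtain ⟨W₁, hW₁, hU₁, a, hy₁, ha⟩ := exists_local U.1 k hy hyU
        obtain ⟨_, ⟨A, hA, rfl⟩, hyA, hAW⟩ :=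
          X.isBasis_affineOpens.exists_subset_of_mem_open (a := y) (u := (W₁ : Set X)) hy₁ W₁.2
        refine ⟨A, le_trans hAW hW₁, hyA, ?_⟩
        rw [← app_res, ← res_res hW₁ hAW, ha, res_smul, res_res, Scheme.Modules.Hom.app_smul, app_res, hσ]
        let a' : Γ(X, A) := X.presheaf.map (homOfLE hAW).op a
        have hU : A ≤ U.1 := le_trans hAW hU₁
        have h1 : p.app A (res (le_trans hAW hW₁) k) = 0 := by rw [app_res, hpk]; exact map_zero _
        rw [← res_res hW₁ hAW, ha, res_smul, res_res, Scheme.Modules.Hom.app_smul, app_res, hp,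
          push_smul] at h1
        have h2 : i.app A a' = 0 := smul_gen_eq_zero V (i.preimage_mono hU) _ h1
        have h3 : a' ∈ i.ker.ideal ⟨A, hA⟩ := by
          rw [Scheme.Hom.ker_apply, RingHom.mem_ker]; exact h2
        rw [← i.ker.map_ideal (U := ⟨A, hA⟩) (V := U) hU] at h3
        change a' • res hU s = 0
        clear h2
        generalize a' = b at h3 ⊢
        induction h3 using Submodule.span_induction with
        | mem b hb =>
          obtain ⟨c, hc, rfl⟩ := hb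
          exact (res_smul hU c s).symm.trans ((congrArg (res hU) (hs c hc)).trans (map_zero _))
        | zero => exact zero_smul _ _
        | add b c _ _ hb hc => rw [add_smul, hb, hc, add_zero]
        | smul r b _ hb => rw [smul_eq_mul, mul_smul, hb, smul_zero]
      · obtain ⟨W', hW', hy', h0⟩ := exists_local_zero U.1 k hy hyU
        exact ⟨W', hW', hy', by rw [← app_res, h0, map_zero]⟩
    let g : P ⟶ F := Abelian.epiDesc p σ (by exact hk)
    refine ⟨((adj.homEquiv _ _) g).app V (gen V), ?_⟩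
    have hg : (Scheme.Modules.pushforward i).map (adj.homEquiv _ _ g) ≫ cn = g := by
      exact (adj.homEquiv_counit (g := adj.homEquiv _ _ g)).symm.trans (Equiv.symm_apply_apply _ _)
    refine (congr(($hg).app U.1 e)).trans ?_
    rw [← hp]
    exact (congr(($(Abelian.comp_epiDesc p σ hk)).app U.1 (gen U.1))).trans hσ

end Groth.Agent.HomO7
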